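import Groth.Agent.GenusZeroPts92.Basic
import Groth.Agent.GenusZeroPts92.GenusOne
import Groth.Agent.CurveVA2.Basic

/-!
# Sections of `L^2` on a genus one curve

Tools for `H⁰(L) ⊗ H⁰(L) → H⁰(L²)`.
-/

set_option autoImplicit false
set_option linter.style.haveILetI false
set_option linter.unusedSectionVars false
set_option maxHeartbeats 1000000
set_option synthInstance.maxHeartbeats 200000

open CategoryTheory CategoryTheory.Limits AlgebraicGeometry TopologicalSpace Opposite
open Groth.Agent.QCoh Groth.Agent.Props.GenLocus Groth.Agent.Props.GenTensor Groth.Agent.Props.GenProd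
open Groth.Agent.AmpleLib

universe u

noncomputable section

namespace Groth.Agent.GenusOneGen92

/-- A codimension one subspace containing `1`: its products span everything unless it is a subalgebra
containing a codimension two ideal. -/
theorem exists_ideal_of_span_mul_ne_top {k R : Type u} [Field k] [CommRing R] [Algebra k R]
    (V : Submodule k R) (h1 : (1 : R) ∈ V) (w : R) (hw : ∀ r, ∃ a : k, r - a • w ∈ V)
    (I : Ideal R) (hI : ∀ r ∈ I, r ∈ V) (hne : V * V ≠ ⊤) :
    ∃ J : Ideal R, I ≤ J ∧ (∀ v ∈ V, ∃ a : k, v - a • (1 : R) ∈ J) ∧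
      ∀ a b : k, a • (1 : R) + b • w ∈ J → a = 0 ∧ b = 0 := by
  have hle : V ≤ V * V := fun v hv => by simpa using Submodule.mul_mem_mul hv h1
  have hwP : w ∉ V * V := fun h => hne (eq_top_iff.2 fun r _ => by
    obtain ⟨a, ha⟩ := hw r
    have := add_mem (hle ha) (Submodule.smul_mem _ a h)
    simpa using this)
  have hmul : ∀ u ∈ V, ∀ v ∈ V, u * v ∈ V := fun u hu v hv => by
    obtain ⟨a, ha⟩ := hw (u * v)
    rcases eq_or_ne a 0 with rfl | h0
    · simpa using ha
    · refine absurd ?_ hwP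
      have := Submodule.smul_mem _ a⁻¹ (sub_mem (Submodule.mul_mem_mul hu hv) (hle ha))
      rwa [sub_sub_cancel, inv_smul_smul₀ h0] at this
  have hwV : w ∉ V := fun h => hwP (hle h)
  let J : Ideal R :=
    { carrier := {b | ∀ r, b * r ∈ V}
      add_mem' := fun {a b} ha hb r => by rw [add_mul]; exact add_mem (ha r) (hb r)
      zero_mem' := fun r => by rw [zero_mul]; exact zero_mem _
      smul_mem' := fun c b hb r => by rw [smul_eq_mul, mul_comm c b, mul_assoc]; exact hb _ }
  have hJ : ∀ b, b ∈ V → b * w ∈ V → b ∈ J := fun b hb hbw r => by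
    obtain ⟨a, ha⟩ := hw r
    have e : b * r = b * (r - a • w) + a • (b * w) := by rw [mul_sub, mul_smul_comm, sub_add_cancel]
    rw [e]; exact add_mem (hmul _ hb _ ha) (Submodule.smul_mem _ a hbw)
  refine ⟨J, fun r hr s => hI _ (Ideal.mul_mem_right _ _ hr), fun v hv => ?_, fun a b hab => ?_⟩
  · obtain ⟨a, ha⟩ := hw (v * w)
    refine ⟨a, hJ _ (sub_mem hv (Submodule.smul_mem _ a h1)) ?_⟩
    rwa [sub_mul, smul_mul_assoc, one_mul]
  · have hV : a • (1 : R) + b • w ∈ V := by simpa using hab 1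
    obtain rfl : b = 0 := by
      by_contra h0
      refine hwV ?_
      have := Submodule.smul_mem _ b⁻¹ (sub_mem hV (Submodule.smul_mem _ a h1))
      rwa [add_sub_cancel_left, inv_smul_smul₀ h0] at this
    refine ⟨?_, rfl⟩
    by_contra h0
    refine hwV ?_
    have := Submodule.smul_mem _ a⁻¹ (hab w)
    simpa [smul_smul, inv_mul_cancel₀ h0] using this

variable {X : Scheme.{u}} {L : X.Modules}

/-- Every section of `L^{⊗1} = O ⊗ L` is `1 ⊗ σ`. -/
theorem exists_pw_one (hL : PicF.IsInvertible L) (x : Γ(CohB1.tensorPow L 1, ⊤)) :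
    ∃ σ : Γ(L, ⊤), x = pw L σ 1 := by
  choose W e hxW he using exists_isGen hL
  have hinj : ∀ {V : X.Opens} {d : Γ(L, V)}, IsGen L V d → ∀ a b : Γ(L, V), pw L a 1 = pw L b 1 → a = b := by
    intro V d hd a b hab
    obtain ⟨p, hp, -⟩ := hd.exists_eq le_rfl a
    obtain ⟨q, hq, -⟩ := hd.exists_eq le_rfl b
    rw [res_self] at hp hq
    rw [hp, hq, pw_smul, pw_smul, pow_one, pow_one] at hab
    have := (isGen_pw hd 1).injective le_rfl (a := p) (b := q) (by rw [res_self]; exact hab)
    rw [hp, hq, this]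
  obtain ⟨σ, hσ⟩ := exists_glue L (U := W) (fun i => le_top) (fun y _ => Opens.mem_iSup.2 ⟨y, hxW y⟩)
    (fun i => co 1 x le_top (he i) • e i) fun i j => by
      refine hinj ((he i).restrict inf_le_left) _ _ ?_
      rw [← res_pw, ← res_pw, pw_smul, pw_smul, pow_one, pow_one, ← co_spec x le_top (he i),
        ← co_spec x le_top (he j), res_res, res_res]
  refine ⟨σ, eq_of_locally_eq _ (fun i : X => (le_top : W i ≤ ⊤)) (fun y _ => Opens.mem_iSup.2 ⟨y, hxW y⟩) _ _
    fun i => ?_⟩
  rw [res_pw, hσ i, pw_smul, pow_one]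
  exact co_spec x le_top (he i)

/-- A section of `L²` whose coefficient is divisible by that of `s` near the zeros of `s` is divisible by `s`. -/
theorem exists_div (s : Γ(L, ⊤)) {U : X.Opens} (hcov : U ⊔ locus s = ⊤)
    {e : Γ(L, U)} (he : IsGen L U e) {f : Γ(X, U)} (hf : res L le_top s = f • e)
    (x : Γ(CohB1.tensorPow L 2, ⊤)) (r : Γ(X, U)) (hr : co 2 x le_top he = r * f) :
    ∃ y : Γ(CohB1.tensorPow L 1, ⊤), x = tmul y s := by
  let S := locus s
  have hS : IsGen L S (res L le_top s) := isGen_locus s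
  let c' := co 2 x le_top hS
  have hx1 : res _ (le_top : U ≤ ⊤) x = tmul (r • pw L e 1) (res L le_top s) := by
    rw [co_spec x le_top he, hr, hf, tmul_smul_left, tmul_smul_right, smul_smul]
    rfl
  have hx2 : res _ (le_top : S ≤ ⊤) x = tmul (c' • pw L (res L (le_top : S ≤ ⊤) s) 1) (res L (le_top : S ≤ ⊤) s) := by
    rw [co_spec x le_top hS, tmul_smul_left]
    rfl
  let Us : Bool → X.Opens := fun b => cond b U S
  let ys : ∀ b, Γ(CohB1.tensorPow L 1, Us b) := fun b => match b with
    | true => r • pw L e 1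
    | false => (c' • pw L (res L (le_top : S ≤ ⊤) s) 1 : Γ(CohB1.tensorPow L 1, S))
  have hxs : ∀ b, res _ (le_top : Us b ≤ ⊤) x = tmul (ys b) (res L le_top s) := fun b => by
    cases b
    · exact hx2
    · exact hx1
  have hc : (⊤ : X.Opens) ≤ iSup Us := by
    rw [iSup_bool_eq]; exact hcov.ge
  have hinj : ∀ {V : X.Opens} (hV : V ≤ S) (a b : Γ(CohB1.tensorPow L 1, V)),
      tmul a (res L (le_top : V ≤ ⊤) s) = tmul b (res L le_top s) → a = b := by
    intro V hV a b hab
    have hg : IsGen L V (res L (le_top : V ≤ ⊤) s) := by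
      have := hS.restrict hV
      rwa [res_res] at this
    obtain ⟨p, hp, -⟩ := (isGen_pw hg 1).exists_eq le_rfl a
    obtain ⟨q, hq, -⟩ := (isGen_pw hg 1).exists_eq le_rfl b
    rw [res_self] at hp hq
    rw [hp, hq, tmul_smul_left, tmul_smul_left] at hab
    have := (isGen_pw hg 2).injective le_rfl (a := p) (b := q) (by rw [res_self]; exact hab)
    rw [hp, hq, this]
  obtain ⟨y, hy⟩ := exists_glue (CohB1.tensorPow L 1) (fun b => (le_top : Us b ≤ ⊤)) hc ys fun i j => by
    by_cases hij : i = j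
    · subst hij; rfl
    have hV : Us i ⊓ Us j ≤ S := by
      cases i <;> cases j
      all_goals first | exact inf_le_left | exact inf_le_right | exact absurd rfl hij
    refine hinj hV _ _ ?_
    have e1 := congrArg (res (CohB1.tensorMod (CohB1.tensorPow L 1) L) (inf_le_left : Us i ⊓ Us j ≤ Us i)) (hxs i)
    have e2 := congrArg (res (CohB1.tensorMod (CohB1.tensorPow L 1) L) (inf_le_right : Us i ⊓ Us j ≤ Us j)) (hxs j)
    rw [res_tmul, res_res L] at e1 e2
    refine e1.symm.trans (Eq.trans ?_ e2)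
    exact (res_res (CohB1.tensorPow L 2) _ _ x).trans (res_res (CohB1.tensorPow L 2) _ _ x).symm
  refine ⟨y, eq_of_locally_eq (CohB1.tensorPow L 2) (fun b => (le_top : Us b ≤ ⊤)) hc _ _ fun b => ?_⟩
  refine (hxs b).trans (Eq.trans ?_ (res_tmul (le_top : Us b ≤ ⊤) y s).symm)
  rw [hy b]

section Curve

variable (k : Type u) [Field k] [X.Over (Spec (CommRingCat.of k))]
  [IsProper (X ↘ Spec (CommRingCat.of k))] [IsIntegral X] (hdim : topologicalKrullDim X = 1)
  (hg : Curv2.genus k X = 1) (hL : PicF.IsInvertible L)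

include k hdim hg hL in
theorem h1_eq_zero (hd : 1 ≤ Curv2.deg k X L 1) : Subsingleton (Coh.HH X L 1) := by
  by_contra h
  have h1 := CurveSimple.euler_lt_of_h1 k hdim (VBLib.isCoh_of_ofRank (ProjTwist.isFinLocFreeOfRank_one hL)) hL (𝟙 L)
    (not_subsingleton_iff_nontrivial.1 h)
  simp only [Curv2.deg, Nat.cast_one, one_mul] at hd
  rw [CurveSimple.euler_structure k hdim (GenusZeroPts92.finrank_h0_eq_one_of_genus_one k hg), hg] at hd
  rw [hg] at h1
  push_cast at h1 hd
  omega

include k hdim hg hL in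
theorem h0_eq_deg (hd : 1 ≤ Curv2.deg k X L 1) : (Module.finrank k (Coh.HH X L 0) : ℤ) = Curv2.deg k X L 1 := by
  haveI := h1_eq_zero k hdim hg hL hd
  have h := CurveSimple.euler_eq k hdim L
  rw [Module.finrank_zero_of_subsingleton (M := Coh.HH X L 1)] at h
  simp only [Curv2.deg, Nat.cast_one, one_mul]
  rw [CurveSimple.euler_structure k hdim (GenusZeroPts92.finrank_h0_eq_one_of_genus_one k hg), hg, h]
  push_cast
  ring

end Curve

end Groth.Agent.GenusOneGen92
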