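import Groth.Agent.GenusOneGen92.Main

/-!
# A line bundle generating its section ring in degree one is very ample
-/

set_option autoImplicit false
set_option linter.style.haveILetI false
set_option linter.unusedSectionVars false
set_option maxHeartbeats 1000000
set_option synthInstance.maxHeartbeats 200000

open CategoryTheory CategoryTheory.Limits AlgebraicGeometry TopologicalSpace Opposite
open Groth.Agent.QCoh Groth.Agent.Props.GenLocus Groth.Agent.Props.GenTensor Groth.Agent.Props.GenProd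
open Groth.Agent.AmpleLib

universe u

noncomputable section

namespace Groth.Agent.GenusOneGen92

variable {k : Type u} [Field k] {X : Scheme.{u}} [X.Over (Spec (CommRingCat.of k))]
  [IsProper (X ↘ Spec (CommRingCat.of k))] (hdim : topologicalKrullDim X = 1)
  {L : X.Modules} (hL : PicF.IsInvertible L)

/-- Sections of every power `L^(j+2)` are sums of products with sections of `L`. -/
def Gen (L : X.Modules) : Prop :=
  ∀ j : ℕ, AddSubgroup.closure (Set.range fun p : Γ(CohB1.tensorPow L (j + 1), ⊤) × Γ(L, ⊤) =>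
    (show Γ(CohB1.tensorPow L (j + 2), ⊤) from tmul p.1 p.2)) = ⊤

include k hdim hL in
theorem gen_of_two (hgg : Curv2.IsGloballyGenerated L) (h1 : Subsingleton (Coh.HH X L 1))
    (h2 : AddSubgroup.closure (Set.range fun p : Γ(CohB1.tensorPow L 1, ⊤) × Γ(L, ⊤) =>
      (show Γ(CohB1.tensorPow L 2, ⊤) from tmul p.1 p.2)) = ⊤) : Gen L := by
  classical
  haveI := EulerChar.compactSpace k (X := X)
  choose σ hσ using fun x : X => DimOneAmple.exists_genLocus_mem hL hgg x
  obtain ⟨T, hT⟩ := isCompact_univ.elim_finite_subcover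
    (fun x : X => ((locus (O := ⊤) (σ x)) : Set X)) (fun x => (locus (O := ⊤) (σ x)).2)
    fun x _ => Set.mem_iUnion.2 ⟨x, hσ x⟩
  have hg : ∀ x : X, ∃ a, x ∈ locus ((fun a => σ (T.equivFin.symm a)) a) := fun x => by
    obtain ⟨y, hy, hxy⟩ := Set.mem_iUnion₂.1 (hT (Set.mem_univ x))
    exact ⟨T.equivFin ⟨y, hy⟩, by simpa using hxy⟩
  rintro (_ | j)
  · exact h2
  refine eq_top_iff.2 fun x _ => ?_
  obtain ⟨y, hy⟩ := CurveVA2.exists_eq_sum (k := k) hdim hL hgg h1 _ hg j x
  rw [hy]
  exact AddSubgroup.sum_mem _ fun a _ => AddSubgroup.subset_closure ⟨(y a, σ (T.equivFin.symm a)), rfl⟩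

include k hdim hL in
/-- On the locus of a section the coefficients of the sections of `L` generate all functions. -/
theorem closure_eq_top' (hgn : Gen L) (s₀ : Γ(L, ⊤)) {U : X.Opens}
    (hU : U = locus s₀) (he : IsGen L U (res L (le_top : U ≤ ⊤) s₀)) (S : Subring Γ(X, U))
    (hS : ∀ (σ : Γ(L, ⊤)) (c : Γ(X, U)), res L (le_top : U ≤ ⊤) σ = c • res L (le_top : U ≤ ⊤) s₀ → c ∈ S) : S = ⊤ := by
  haveI := EulerChar.compactSpace k (X := X)
  haveI := EulerChar.isNoetherian k (X := X)
  have hr : ∀ σ : Γ(L, ⊤), ∃ c ∈ S, res L (le_top : U ≤ ⊤) σ = c • res L (le_top : U ≤ ⊤) s₀ := fun σ => by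
    obtain ⟨c, hc, -⟩ := he.exists_eq le_rfl (res L le_top σ)
    rw [res_self] at hc
    exact ⟨c, hS σ c hc, hc⟩
  have hall : ∀ j, ∀ σ : Γ(CohB1.tensorPow L (j + 1), ⊤), co (j + 1) σ le_top he ∈ S := by
    intro j
    induction j with
    | zero =>
      intro x
      obtain ⟨σ, rfl⟩ := exists_pw_one hL x
      obtain ⟨c, hc, hc'⟩ := hr σ
      rwa [show co (0 + 1) (pw L σ 1) le_top he = c from co_unique (k := 1) _ _ _ (by
        rw [res_pw, hc', pw_smul, pow_one])]
    | succ j ih =>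
      intro σ
      have hσ : σ ∈ AddSubgroup.closure (Set.range fun p : Γ(CohB1.tensorPow L (j + 1), ⊤) × Γ(L, ⊤) =>
          (show Γ(CohB1.tensorPow L (j + 2), ⊤) from tmul p.1 p.2)) := by
        rw [hgn j]; exact AddSubgroup.mem_top _
      induction hσ using AddSubgroup.closure_induction with
      | mem x hx =>
        obtain ⟨⟨y, b⟩, rfl⟩ := hx
        obtain ⟨c, hcS, hc⟩ := hr b
        rw [CurveVA2.co_tmul y b le_top he hc]
        exact S.mul_mem (ih y) hcS
      | zero => rw [CurveVA2.co_zero']; exact S.zero_mem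
      | add x y _ _ hx hy => rw [CurveVA2.co_add]; exact S.add_mem hx hy
      | neg x _ hx =>
        have h := CurveVA2.co_add x (-x) (le_top : U ≤ ⊤) he
        rw [add_neg_cancel, CurveVA2.co_zero'] at h
        rw [show co (j + 1 + 1) (-x) le_top he = -co (j + 1 + 1) x le_top he from eq_neg_of_add_eq_zero_right h.symm]
        exact S.neg_mem hx
  refine eq_top_iff.2 fun f _ => ?_
  let s : Coh.structureModule X ⟶ CohB1.tensorPow L 1 := homOfSec (pw L s₀ 1)
  have hs : sec s ⊤ = pw L s₀ 1 := by simp only [s, sec_homOfSec, res_self]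
  have hU' : U = CohB1.genLocus _ s := by
    rw [genLocus_homOfSec, hU]
    exact ((locus_tmul (LFFrame.isInvertible_structureModule X) hL
      (show Γ(Coh.structureModule X, ⊤) from one' ⊤) s₀).trans (by
        rw [DimOneAmple.locus_one, top_inf_eq])).symm
  obtain ⟨N, hN⟩ := Props.AmpleCoeff.exists_extend hL s hU' (l := 0) (show Γ(CohB1.tensorPow L 0, U) from f)
  obtain ⟨t, ht⟩ := hN (N + 1) (by omega)
  have h0 : co 0 (show Γ(CohB1.tensorPow L 0, U) from f) (inf_le_left : U ⊓ U ≤ U)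
      (he.restrict inf_le_right) = rres (inf_le_right : U ⊓ U ≤ U) f := by
    refine co_unique _ _ _ ?_
    exact (mul_one (rres (inf_le_right : U ⊓ U ≤ U) f)).symm
  have h1' : co 1 (sec s ⊤) (le_top : U ≤ ⊤) he = 1 := co_unique _ _ _ (by rw [hs, res_pw, one_smul])
  have h2 := ht U _ he
  rw [h0, h1', map_one, one_pow, one_mul (rres (inf_le_right : U ⊓ U ≤ U) f)] at h2
  have h3 : f = co (0 + 1 * (N + 1)) (sec t ⊤) le_top he := by
    have h4 := congrArg (rres (le_inf le_rfl le_rfl : U ≤ U ⊓ U)) h2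
    rw [rres_rres, rres_rres, rres_self, rres_self] at h4
    exact h4.symm
  rw [h3]
  have key : ∀ (m : ℕ) (σ : Γ(CohB1.tensorPow L m, ⊤)), m = N + 1 → co m σ le_top he ∈ S := by
    rintro m σ rfl
    exact hall N σ
  exact key _ _ (by omega)

include k hdim hL in
/-- Such a line bundle is very ample. -/
theorem exists_closedImmersion (hgg : Curv2.IsGloballyGenerated L) (hgn : Gen L) (hample : CohB1.IsAmple L) :
    ∃ (n : ℕ) (i : X ⟶ CohB1.ProjSpace n k), IsClosedImmersion i ∧
      i ≫ CohB1.ProjSpace.toSpec n k = X ↘ Spec (CommRingCat.of k) ∧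
      Nonempty ((Scheme.Modules.pullback i).obj (Twist.twistProjSpace n k 1) ≅ L) := by
  classical
  let q := X ↘ Spec (CommRingCat.of k)
  haveI := EulerChar.compactSpace k (X := X)
  haveI := EulerChar.isNoetherian k (X := X)
  choose σ hσ using fun x : X => DimOneAmple.exists_genLocus_mem hL hgg x
  obtain ⟨T, hT⟩ := isCompact_univ.elim_finite_subcover
    (fun x : X => ((locus (O := ⊤) (σ x)) : Set X)) (fun x => (locus (O := ⊤) (σ x)).2)
    fun x _ => Set.mem_iUnion.2 ⟨x, hσ x⟩
  let g : Fin T.card → Γ(L, ⊤) := fun a => σ (T.equivFin.symm a)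
  have hg : ∀ x : X, ∃ a, x ∈ locus (g a) := fun x => by
    obtain ⟨y, hy, hxy⟩ := Set.mem_iUnion₂.1 (hT (Set.mem_univ x))
    exact ⟨T.equivFin ⟨y, hy⟩, by simpa [g] using hxy⟩
  let B := L
  have hB : PicF.IsInvertible B := hL
  haveI := EulerChar.finite_HH k B (VBLib.isCoh_of_ofRank (ProjTwist.isFinLocFreeOfRank_one hB)) 0
  let b := Module.finBasis k (Coh.HH X B 0)
  have hT0 : 0 < T.card := by
    haveI : Nonempty X := by
      by_contra h
      rw [not_nonempty_iff] at h
      haveI : IsEmpty (TopologicalSpace.IrreducibleCloseds X) :=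
        ⟨fun Z => Z.2.nonempty.elim fun x _ => h.elim x⟩
      rw [topologicalKrullDim, Order.krullDim_eq_bot] at hdim
      exact absurd hdim (by simp)
    obtain ⟨a, -⟩ := hg (Classical.arbitrary X)
    exact Fin.pos a
  obtain ⟨n, hn⟩ : ∃ n, T.card + Module.finrank k (Coh.HH X B 0) = n + 1 :=
    ⟨T.card + Module.finrank k (Coh.HH X B 0) - 1, by omega⟩
  let ε : Fin (n + 1) ≃ Fin T.card ⊕ Fin (Module.finrank k (Coh.HH X B 0)) :=
    (finCongr hn.symm).trans finSumFinEquiv.symm
  let s : Fin (n + 1) → ProjUP.Γm B := fun l =>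
    Sum.elim (fun a => (g a : Γ(B, ⊤))) (fun l => ProperFin.h0Sec B (b l)) (ε l)
  have hloc : ∀ a, locus (O := ⊤) (s (ε.symm (.inl a))) = locus (g a) := fun a => by
    have e1 : (s (ε.symm (.inl a)) : Γ(B, ⊤)) = g a := by simp [s]
    exact congrArg (locus (M := B) (O := ⊤)) e1
  let J : Set (Fin (n + 1)) := Set.range fun a => ε.symm (.inl a)
  have hcov : ⊤ ≤ ⨆ l ∈ J, locus (O := ⊤) (s l) := fun x _ => by
    obtain ⟨a, ha⟩ := hg x
    exact Opens.mem_iSup.2 ⟨ε.symm (.inl a), Opens.mem_iSup.2 ⟨⟨a, rfl⟩, (hloc a).ge ha⟩⟩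
  have hgen : ProjUP.GeneratedBy B s := by
    intro x
    obtain ⟨l, hl⟩ := Opens.mem_iSup.mp (hcov (trivial : x ∈ (⊤ : X.Opens)))
    obtain ⟨-, hxl⟩ := Opens.mem_iSup.mp hl
    have hbij := ((isGen_iff_isFrame _).mp (isGen_locus (O := ⊤) (s l))).stalkComb_bijective x hxl
    refine top_le_iff.mp fun z _ => ?_
    obtain ⟨c, hc⟩ := hbij.2 z
    rw [← hc]
    simp only [LFFrame.stalkComb, Fintype.linearCombination_apply, Fin.sum_univ_one]
    refine Submodule.smul_mem _ _ (Submodule.subset_span ⟨l, ?_⟩)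
    exact (B.presheaf.germ_res_apply _ x hxl (s l)).symm
  obtain ⟨φ, τ, hr, hpre, hcoef, -⟩ := ProjMorph.exists_to_proj (R := k)
    («𝒜» := CohB1.polyGrading n k) (MvPolynomial.X : Fin (n + 1) → MvPolynomial (Fin (n + 1)) k)
    (SepTang48.X_mem k n) MvPolynomial.adjoin_range_X (ProjUP.toGlobal q) hB s hgen
    (fun i c _ => ⟨MvPolynomial.eval₂Hom ((QCoh.rres le_top).hom.comp (ProjUP.toGlobal q)) c,
      RingHom.ext fun a => MvPolynomial.eval₂Hom_C _ _ a, fun j => MvPolynomial.eval₂Hom_X' _ _ _⟩)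
  have hφ : φ ≫ CohB1.ProjSpace.toSpec n k = q := hr.trans (ProjMorph.toSpecΓ_toGlobal _)
  haveI := ProjProper.Basic.isProper_toSpec n k
  haveI : IsProper φ := by
    haveI : IsProper (φ ≫ CohB1.ProjSpace.toSpec n k) := hφ ▸ (inferInstance : IsProper q)
    exact IsProper.of_comp φ (CohB1.ProjSpace.toSpec n k)
  have hImm : IsImmersion φ := by
    refine ProjMorph.isImmersion_of_pieces φ (𝟙 _) (CohB1.ProjSpace.toSpec n k) inferInstance
      (MvPolynomial.X : Fin (n + 1) → MvPolynomial (Fin (n + 1)) k) (SepTang48.X_mem k n) s J hcov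
      ?_ hpre hcoef ?_
    · rintro _ ⟨a, rfl⟩
      rw [hloc a]
      have h := Props.AmpleProper.isAffineOpen_genLocus q hample
        (homOfSec (g a) ≫ (ProjTwist.oneTens L).inv)
      rwa [show CohB1.genLocus (CohB1.tensorPow L 1) (homOfSec (g a) ≫ (ProjTwist.oneTens L).inv) = locus (g a) from
        (genLocus_comp_iso (homOfSec (g a)) (ProjTwist.oneTens L).symm).trans (genLocus_homOfSec _)] at h
    · rintro _ ⟨a, rfl⟩ c hc
      let U : X.Opens := locus (O := ⊤) (s (ε.symm (.inl a)))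
      have he : IsGen L U (res L (le_top : U ≤ ⊤) (g a)) := by
        have h := (isGen_locus (g a)).restrict (hloc a).le
        rwa [res_res] at h
      generalize hSdef : (Subring.closure _ : Subring Γ(X, U)) = S
      refine closure_eq_top' (k := k) hdim hL hgn (g a) (hloc a) he S fun σ₂ c₂ hc₂ => ?_
      have e1 : (s (ε.symm (.inl a)) : Γ(B, ⊤)) = g a := by simp [s]
      have hcl : ∀ l, res L (le_top : U ≤ ⊤) (s l) = c l • res L (le_top : U ≤ ⊤) (g a) := fun l =>
        (hc l).trans (congrArg (c l • ·) (congrArg (res B (le_top : U ≤ ⊤)) e1))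
      let P : Γ(L, ⊤) → Prop := fun σ => ∀ c' : Γ(X, U),
        res L (le_top : U ≤ ⊤) σ = c' • res L (le_top : U ≤ ⊤) (g a) → c' ∈ S
      suffices key : P σ₂ from key c₂ hc₂
      have huniq : ∀ {x y : Γ(X, U)}, x • res L (le_top : U ≤ ⊤) (g a) = y • res L (le_top : U ≤ ⊤) (g a) →
          x = y := fun {x y} h => he.injective le_rfl (by rw [res_self]; exact h)
      obtain ⟨v, rfl⟩ : ∃ v, ProperFin.h0Sec B v = σ₂ :=
        ⟨(ProperFin.h0Sec B).symm σ₂, (ProperFin.h0Sec B).apply_symm_apply σ₂⟩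
      rw [← b.sum_repr v, map_sum]
      refine Finset.sum_induction (fun l => ProperFin.h0Sec B (b.repr v l • b l)) P
        (fun σ σ' hσ hσ' c' hc' => ?_) (fun c' hc' => ?_) (fun l _ c' hc' => ?_)
      · obtain ⟨p, hp, -⟩ := he.exists_eq le_rfl (res L le_top σ)
        obtain ⟨q', hq', -⟩ := he.exists_eq le_rfl (res L le_top σ')
        rw [res_self] at hp hq'
        rw [map_add, hp, hq', ← add_smul] at hc'
        rw [← huniq hc']
        exact Subring.add_mem _ (hσ p hp) (hσ' q' hq')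
      · rw [map_zero] at hc'
        rw [← huniq ((zero_smul _ _).trans hc')]
        exact Subring.zero_mem _
      · have e3 : ProperFin.h0Sec B (b.repr v l • b l) =
            ProjUP.toGlobal q (b.repr v l) • ProperFin.h0Sec B (b l) :=
          ProperFin.h0Sec_smul B (Coh.toGlobal q (b.repr v l)) (b l)
        have e4 : s (ε.symm (.inr l)) = ProperFin.h0Sec B (b l) := by simp [s]
        rw [e3, res_smul, ← e4, hcl, smul_smul] at hc'
        rw [← huniq hc', ← hSdef]
        refine Subring.mul_mem _ (Subring.subset_closure (Or.inl ?_)) (Subring.subset_closure (Or.inr ?_))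
        · refine ⟨(Scheme.ΓSpecIso (CommRingCat.of k)).inv (b.repr v l), ?_⟩
          simp only [hφ]
          rfl
        · exact ⟨ε.symm (.inr l), rfl⟩
  haveI := hImm
  exact ⟨n, φ, .of_isPreimmersion φ φ.isClosedMap.isClosed_range, hφ, ⟨τ⟩⟩

end Groth.Agent.GenusOneGen92
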