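import Groth.Agent.GenusOneGen92.Basic
import Groth.Agent.SerrePn.Coherent

/-!
# `H⁰(L) ⊗ H⁰(L) → H⁰(L²)` is surjective in degree at least three
-/

set_option autoImplicit false
set_option linter.style.haveILetI false
set_option linter.unusedSectionVars false
set_option maxHeartbeats 2000000
set_option synthInstance.maxHeartbeats 200000

open CategoryTheory CategoryTheory.Limits AlgebraicGeometry TopologicalSpace Opposite
open Groth.Agent.QCoh Groth.Agent.Props.GenLocus Groth.Agent.Props.GenTensor Groth.Agent.Props.GenProd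
open Groth.Agent.AmpleLib Groth.Agent.PullStalk.Sky Groth.Agent.PullStalk.Exact

universe u

noncomputable section

namespace Groth.Agent.GenusOneGen92

variable {X : Scheme.{u}} {L : X.Modules} (k : Type u) [Field k] [X.Over (Spec (CommRingCat.of k))]
  [IsProper (X ↘ Spec (CommRingCat.of k))] [IsIntegral X] (hdim : topologicalKrullDim X = 1)
  (hg : Curv2.genus k X = 1) (hL : PicF.IsInvertible L)

attribute [local instance] VarDim.secAlgebra

theorem comp_app' {A B C : X.Modules} (φ : A ⟶ B) (ψ : B ⟶ C) (U : X.Opens) (y : Γ(A, U)) :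
    (φ ≫ ψ).app U y = ψ.app U (φ.app U y) := rfl

include k hdim hg hL in
/-- Coherent submodules with at least two sections have no `H¹`. -/
theorem euler_eq_h0_of_mono {F : X.Modules} (hF : Coh.IsCoh F) (i : F ⟶ L) [Mono i]
    (h : 2 ≤ Module.finrank k (Coh.HH X F 0)) :
    Curv2.euler k X F = Module.finrank k (Coh.HH X F 0) := by
  rw [CurveSimple.euler_eq k hdim]
  by_cases h1 : Nontrivial (Coh.HH X F 1)
  · have := CurveSimple.h0_le_genus_of_h1 k hdim hF hL i h1
    omega
  · haveI := not_nontrivial_iff_subsingleton.1 h1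
    rw [Module.finrank_zero_of_subsingleton (M := Coh.HH X F 1)]
    simp

include k hdim hg hL in
/-- Sections of `L²` are sums of products of sections of `L`. -/
theorem closure_tmul_eq_top [Infinite k] (hd : 3 ≤ Curv2.deg k X L 1) :
    AddSubgroup.closure (Set.range fun p : Γ(CohB1.tensorPow L 1, ⊤) × Γ(L, ⊤) =>
      (show Γ(CohB1.tensorPow L 2, ⊤) from tmul p.1 p.2)) = ⊤ := by
  classical
  haveI := EulerChar.isNoetherian k (X := X)
  haveI := EulerChar.compactSpace k (X := X)
  have hO := PicLoc.isInvertible_structureModule X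
  have hOc := VBLib.isCoh_of_ofRank (ProjTwist.isFinLocFreeOfRank_one hO)
  have hLc := VBLib.isCoh_of_ofRank (ProjTwist.isFinLocFreeOfRank_one hL)
  have h0O := GenusZeroPts92.finrank_h0_eq_one_of_genus_one k hg
  haveI := EulerChar.finite_HH k L hLc 0
  -- sections `s`, `t`
  obtain ⟨s, hs⟩ := GenusZeroPts92.exists_gen_of_genus_one k hdim hg hL (by omega) (genericPoint X)
  have hZ : ((CohB1.genLocus L s : Set X))ᶜ.Finite :=
    VarDim.finite_of_isClosed k hdim (CohB1.genLocus L s).isOpen.isClosed_compl (fun h => h hs)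
  obtain ⟨σt, hσt⟩ := GenusZeroPts92.exists_gen_finset k hL
    (GenusZeroPts92.exists_gen_of_genus_one k hdim hg hL (by omega)) hZ.toFinset
  let σs := sec s ⊤
  let U := locus σt
  have hcov : U ⊔ locus σs = ⊤ := by
    refine top_le_iff.1 fun y _ => ?_
    by_cases hy : y ∈ CohB1.genLocus L s
    · rw [genLocus_eq_locus] at hy
      exact Or.inr hy
    · exact Or.inl (hσt y (hZ.mem_toFinset.2 hy))
  have hUa : IsAffineOpen U := by
    have hamp := EulerChar.isAmple_of_deg_pos k hdim hL (by omega)
    have h := Props.AmpleProper.isAffineOpen_genLocus (X ↘ Spec (CommRingCat.of k)) hamp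
      (homOfSec σt ≫ (ProjTwist.oneTens L).inv)
    rwa [show CohB1.genLocus (CohB1.tensorPow L 1) (homOfSec σt ≫ (ProjTwist.oneTens L).inv) = U from
      (genLocus_comp_iso (homOfSec σt) (ProjTwist.oneTens L).symm).trans (genLocus_homOfSec _)] at h
  let e := res L (le_top : U ≤ ⊤) σt
  have he : IsGen L U e := isGen_locus σt
  let g : k →+* Γ(X, ⊤) := Coh.toGlobal (X ↘ Spec (CommRingCat.of k))
  have halg : ∀ a : k, algebraMap k Γ(X, U) a = rres (le_top : U ≤ ⊤) (g a) := fun a => rfl
  -- coefficients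
  have hex : ∀ σ : Γ(L, ⊤), ∃ a : Γ(X, U), res L (le_top : U ≤ ⊤) σ = a • e := fun σ => by
    obtain ⟨a, ha, -⟩ := he.exists_eq le_rfl (res L (le_top : U ≤ ⊤) σ)
    exact ⟨a, by rwa [res_self] at ha⟩
  choose c1 hc1 using hex
  have hc1u : ∀ σ a, res L (le_top : U ≤ ⊤) σ = a • e → c1 σ = a := fun σ a ha =>
    he.injective le_rfl (by rw [res_self, ← hc1, ha])
  have hsmulH : ∀ (a : k) (v : Coh.HH X L 0), ProperFin.h0Sec L (a • v) = g a • ProperFin.h0Sec L v :=
    fun a v => ProperFin.h0Sec_smul L _ v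
  let cL : Coh.HH X L 0 →ₗ[k] Γ(X, U) :=
    { toFun := fun v => c1 (ProperFin.h0Sec L v)
      map_add' := fun v v' => hc1u _ _ (by rw [map_add, map_add, hc1, hc1, add_smul])
      map_smul' := fun a v => hc1u _ _ (by
        rw [hsmulH, res_smul, hc1, RingHom.id_apply, Algebra.smul_def, halg, mul_smul]) }
  let f := c1 σs
  let I : Ideal Γ(X, U) := Ideal.span {f}
  let V : Submodule k Γ(X, U) := LinearMap.range cL ⊔ I.restrictScalars k
  have hVc : ∀ σ, c1 σ ∈ V := fun σ => Submodule.mem_sup_left
    ⟨(ProperFin.h0Sec L).symm σ, by simp [cL]⟩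
  have hVI : ∀ r ∈ I, r ∈ V := fun r hr => Submodule.mem_sup_right hr
  have h1V : (1 : Γ(X, U)) ∈ V := by
    rw [← hc1u σt 1 (one_smul _ _).symm]; exact hVc σt
  -- the cokernel of `s`
  have hs0 : s ≠ 0 := fun h0 => by
    obtain ⟨W, hW, hgW⟩ := (mem_genLocus_iff s _).1 hs
    have : sec s W = 0 := by rw [h0]; rfl
    rw [this] at hgW
    haveI : Nonempty W := ⟨⟨_, hW⟩⟩
    exact one_ne_zero (hgW.injective le_rfl (a := (1 : Γ(X, W))) (b := 0) (by simp))
  haveI := EulerChar.mono_of_ne_zero hO hL s hs0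
  let π := cokernel.π s
  have hQ : Coh.IsCoh (cokernel s) := CohDev.isCoh_cokernel s hOc.1 hLc
  have hS : (ShortComplex.mk s π (cokernel.condition s)).ShortExact :=
    { exact := ShortComplex.exact_of_g_is_cokernel _ (cokernelIsCokernel s)
      mono_f := inferInstance
      epi_g := inferInstanceAs (Epi (cokernel.π s)) }
  have hQd := EulerChar.dim_support_le_zero k hdim hQ
    (CohDev.not_mem_support_cokernel s (EulerChar.bijective_stalk_generic hO hL s hs0).2)
  have hQs : ∀ y, y ∈ CohB1.support (cokernel s) → y ∈ U := fun y hy => by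
    rcases (show y ∈ U ⊔ locus σs from hcov.symm ▸ (trivial : y ∈ (⊤ : X.Opens))) with h | h
    · exact h
    refine absurd (subsingleton_of_forall_eq 0 fun q => ?_) hy
    obtain ⟨-, hex, hsur⟩ := stalk_exact hS y
    obtain ⟨m, rfl⟩ := hsur q
    exact (hex m).2 ((HilbPolyX.stalk_sec_bijective s (by rwa [genLocus_eq_locus])).2 m)
  -- restriction to `U` for modules supported in `U`
  have hbij : ∀ {Q : X.Modules}, Coh.IsCoh Q → topologicalKrullDim (CohB1.support Q) ≤ 0 →
      (∀ y, y ∈ CohB1.support Q → y ∈ U) →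
      Function.Bijective (res Q (le_top : U ≤ ⊤)) := fun {Q} hQc hQd hQU => by
    refine ⟨fun a b hab => ?_, ?_⟩
    · refine TopCat.Presheaf.section_ext (⟨Q.presheaf, Q.isSheaf⟩ : TopCat.Sheaf Ab X) ⊤ _ _ fun y hy => ?_
      by_cases hyU : y ∈ U
      · have h := congrArg (germM Q U y hyU) hab
        exact ((Q.presheaf.germ_res_apply (homOfLE (le_top : U ≤ ⊤)) y hyU a).symm.trans h).trans
          (Q.presheaf.germ_res_apply (homOfLE (le_top : U ≤ ⊤)) y hyU b)
      · haveI : Subsingleton (Q.presheaf.stalk y) := by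
          by_contra hn; exact hyU (hQU y hn)
        exact @Subsingleton.elim _ this _ _
    · exact (AddCommGrpCat.epi_iff_surjective _).1
        ((EulerChar.isFlasque_of_support k hQc hQd).epi (homOfLE (le_top : U ≤ ⊤)).op)
  -- the codimension of `V`
  haveI : (Coh.structureModule X).IsQuasicoherent := hOc.1
  haveI : L.IsQuasicoherent := hLc.1
  haveI : (cokernel s).IsQuasicoherent := hQ.1
  haveI : Epi π := inferInstanceAs (Epi (cokernel.π s))
  have hker : ∀ m : Γ(L, U), π.app U m = 0 → ∃ r : Γ(X, U), m = (r * f) • e := by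
    intro m hm
    obtain ⟨r, hr⟩ := exists_app_eq_of_app_eq_zero (ShortComplex.mk s π (cokernel.condition s)) hS.exact U m hm
    refine ⟨r, hr.symm.trans ?_⟩
    refine (app_eq s U r).trans ?_
    rw [← sec_res s (le_top : U ≤ ⊤), hc1, smul_smul]
  obtain ⟨w, hw⟩ : ∃ w : Γ(X, U), ∀ r, ∃ a : k, r - a • w ∈ V := by
    have hξ : ∀ r : Γ(X, U), ∃ v : Coh.HH X (cokernel s) 0,
        res (cokernel s) le_top (ProperFin.h0Sec _ v) = π.app U (r • e) := fun r => by
      obtain ⟨q, hq⟩ := (hbij hQ hQd hQs).2 (π.app U (r • e))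
      exact ⟨(ProperFin.h0Sec _).symm q, by rw [AddEquiv.apply_symm_apply]; exact hq⟩
    choose ξ hξ using hξ
    let δ := CohLin.overLin k (CohLin.hδ hS 0)
    have hmem : ∀ r (a : k) w', δ (ξ r - a • ξ w') = 0 → r - a • w' ∈ V := by
      intro r a w' h0
      obtain ⟨v, hv⟩ := CohLin.exists_hMap_g_eq hS (n := 0) (ξ r - a • ξ w') h0
      have h1 := congrArg (fun z => res (cokernel s) (le_top : U ≤ ⊤) (ProperFin.h0Sec _ z)) hv
      have h2 : res (cokernel s) (le_top : U ≤ ⊤) (ProperFin.h0Sec _ (ξ r - a • ξ w')) =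
          π.app U ((r - a • w') • e) := by
        rw [map_sub, map_sub, hξ, sub_smul, map_sub]
        congr 1
        rw [show ProperFin.h0Sec (cokernel s) (a • ξ w') = g a • ProperFin.h0Sec _ (ξ w') from
          ProperFin.h0Sec_smul _ _ _, res_smul, hξ, Algebra.smul_def, halg, mul_smul]
        exact (Scheme.Modules.Hom.app_smul π _ _).symm
      have h3 : π.app U ((r - a • w') • e - c1 (ProperFin.h0Sec L v) • e) = 0 := by
        rw [map_sub, ← hc1, sub_eq_zero, ← h2]
        refine h1.symm.trans ?_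
        show res (cokernel s) (le_top : U ≤ ⊤) (ProperFin.h0Sec _ (CohLin.hMap π 0 v)) = _
        rw [ProperFin.h0Sec_hMap]
        exact (app_res π le_top _).symm
      obtain ⟨p, hp⟩ := hker _ h3
      rw [← sub_smul] at hp
      have h4 := he.injective le_rfl (a := r - a • w' - c1 (ProperFin.h0Sec L v)) (b := p * f) (by rwa [res_self])
      rw [sub_eq_iff_eq_add] at h4
      rw [h4]
      exact add_mem (hVI _ (Ideal.mul_mem_left _ _ (Ideal.mem_span_singleton_self f))) (hVc _)
    by_cases hne : ∃ w', δ (ξ w') ≠ 0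
    · obtain ⟨w', hw'⟩ := hne
      refine ⟨w', fun r => ?_⟩
      have hg1 : Module.finrank k (Coh.HH X (Coh.structureModule X) 1) = 1 := hg
      haveI : Module.Free k (Coh.HH X (Coh.structureModule X) 1) := Module.Free.of_divisionRing k _
      obtain ⟨a, ha⟩ := exists_smul_eq_of_finrank_eq_one hg1 hw' (δ (ξ r))
      refine ⟨a, hmem r a w' ?_⟩
      rw [map_sub, map_smul, sub_eq_zero]
      exact ha.symm
    · push_neg at hne
      refine ⟨0, fun r => ⟨0, ?_⟩⟩
      refine hmem r 0 0 ?_
      rw [map_sub, map_smul, hne, hne, smul_zero, sub_zero]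
  -- products give everything
  have htop : V * V = ⊤ := by
    by_contra hne
    obtain ⟨J, hIJ, hJ1, hJ2⟩ := exists_ideal_of_span_mul_ne_top V h1V w hw I hVI hne
    let M : Submodule k (Coh.HH X L 0) := Submodule.comap cL (J.restrictScalars k)
    have hM : (Curv2.deg k X L 1) ≤ (Module.finrank k M : ℤ) + 1 := by
      rw [← h0_eq_deg k hdim hg hL (by omega)]
      have hsup : (⊤ : Submodule k (Coh.HH X L 0)) ≤ M ⊔ Submodule.span k {(ProperFin.h0Sec L).symm σt} := by
        intro v _
        obtain ⟨a, ha⟩ := hJ1 (cL v) (Submodule.mem_sup_left ⟨v, rfl⟩)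
        have hv : v - a • (ProperFin.h0Sec L).symm σt ∈ M := by
          show cL (v - a • (ProperFin.h0Sec L).symm σt) ∈ J
          rw [map_sub, map_smul, show cL ((ProperFin.h0Sec L).symm σt) = 1 from hc1u _ _ (by
            rw [AddEquiv.apply_symm_apply, one_smul])]
          exact ha
        rw [← sub_add_cancel v (a • (ProperFin.h0Sec L).symm σt)]
        exact Submodule.add_mem_sup hv (Submodule.smul_mem _ _ (Submodule.mem_span_singleton_self _))
      have h1 := Submodule.finrank_mono hsup
      rw [finrank_top] at h1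
      have h2 := Submodule.finrank_add_le_finrank_add_finrank M (Submodule.span k {(ProperFin.h0Sec L).symm σt})
      have h3 := finrank_span_le_card (R := k) ({(ProperFin.h0Sec L).symm σt} : Set (Coh.HH X L 0))
      simp only [Set.toFinset_singleton, Finset.card_singleton] at h3
      omega
    -- the submodule generated by `M`
    haveI : Module.Free k M := Module.Free.of_divisionRing k _
    let b := Module.finBasis k M
    let φ : (⨁ fun _ : ULift.{u} (Fin (Module.finrank k M)) => Coh.structureModule X) ⟶ L :=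
      biproduct.desc fun j => homOfSec (ProperFin.h0Sec L (b j.down).1)
    have hAc : Coh.IsCoh (⨁ fun _ : ULift.{u} (Fin (Module.finrank k M)) => Coh.structureModule X) :=
      CohDev.isCoh_of_iso (biproduct.isoCoproduct _).symm (SerrePn.isCoh_coprod _ fun _ => hOc)
    let π' := cokernel.π φ
    have hQ' : Coh.IsCoh (cokernel φ) := CohDev.isCoh_cokernel φ hAc.1 hLc
    haveI : Epi π' := inferInstanceAs (Epi (cokernel.π φ))
    have hS' : (ShortComplex.mk (kernel.ι π') π' (kernel.condition π')).ShortExact :=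
      { exact := ShortComplex.exact_of_f_is_kernel _ (kernelIsKernel π') }
    have hF : Coh.IsCoh (kernel π') := CohDev.isCoh_kernel π' hLc hQ'.1
    have hkill : ∀ v ∈ M, CohLin.hMap π' 0 v = 0 := by
      intro v hv
      have hb : ∀ j, homOfSec (ProperFin.h0Sec L (b j).1) ≫ π' = 0 := fun j => by
        rw [show homOfSec (ProperFin.h0Sec L (b j).1) = biproduct.ι (fun _ : ULift.{u} (Fin (Module.finrank k M)) =>
          Coh.structureModule X) ⟨j⟩ ≫ φ from (biproduct.ι_desc (fun j : ULift.{u} (Fin (Module.finrank k M)) => homOfSec (ProperFin.h0Sec L (b j.down).1)) ⟨j⟩).symm,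
          Category.assoc, cokernel.condition, comp_zero]
      have hbk : ∀ j, CohLin.overLin k (CohLin.hMap π' 0) (b j).1 = 0 := fun j => by
        refine (ProperFin.h0Sec (cokernel φ)).injective ?_
        rw [map_zero]
        refine (ProperFin.h0Sec_hMap π' (b j).1).trans ?_
        have h := congrArg (fun ψ => sec ψ ⊤) (hb j)
        refine Eq.trans ?_ (h.trans rfl)
        exact congrArg (π'.app ⊤) ((sec_homOfSec (ProperFin.h0Sec L (b j).1) ⊤).trans (res_self L le_top _)).symm
      have e1 : v = M.subtype (⟨v, hv⟩ : M) := rfl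
      show CohLin.overLin k (CohLin.hMap π' 0) v = 0
      rw [e1, ← b.sum_repr ⟨v, hv⟩, map_sum, map_sum]
      exact Finset.sum_eq_zero fun j _ => by
        rw [map_smul, map_smul]
        exact (congrArg (_ • ·) (hbk j)).trans (smul_zero _)
    haveI := EulerChar.finite_HH k _ hF 0
    have hMF : Module.finrank k M ≤ Module.finrank k (Coh.HH X (kernel π') 0) := by
      have hsub : M ≤ LinearMap.range (CohLin.overLin k (CohLin.hMap (kernel.ι π') 0)) := fun v hv =>
        CohLin.exists_hMap_f_eq hS' v (hkill v hv)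
      exact (Submodule.finrank_mono hsub).trans (LinearMap.finrank_range_le _)
    haveI : Mono (kernel.ι π') := inferInstance
    have hFe := euler_eq_h0_of_mono k hdim hg hL hF (kernel.ι π') (by omega)
    have hvs : (ProperFin.h0Sec L).symm σs ∈ M := by
      show cL _ ∈ J
      refine hIJ ?_
      show c1 (ProperFin.h0Sec L ((ProperFin.h0Sec L).symm σs)) ∈ I
      rw [AddEquiv.apply_symm_apply]
      exact Ideal.mem_span_singleton_self f
    have hsπ : s ≫ π' = 0 := by
      refine EulerChar.hom_eq_of_sec fun W => ?_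
      rw [show sec (s ≫ π') W = res _ (le_top : W ≤ ⊤) (sec (s ≫ π') ⊤) from (sec_res _ _).symm,
        show sec (s ≫ π') ⊤ = 0 from ?_, map_zero]
      · rfl
      have h := congrArg (ProperFin.h0Sec (cokernel φ)) (hkill _ hvs)
      rw [map_zero, ProperFin.h0Sec_hMap, AddEquiv.apply_symm_apply] at h
      exact h
    let q : cokernel s ⟶ cokernel φ := cokernel.desc s π' hsπ
    have hQ's : CohB1.support (cokernel φ) ⊆ CohB1.support (cokernel s) := fun y hy hsub => hy <|
      subsingleton_of_forall_eq 0 fun z => by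
        haveI : Epi q := epi_of_epi_fac (cokernel.π_desc s π' hsπ)
        obtain ⟨z', rfl⟩ := stalk_surjective q y z
        rw [@Subsingleton.elim _ hsub z' 0, map_zero]
    have hQ'd := (TopDimLib.topDim_le_of_subset hQ's).trans hQd
    have hadd := EulerChar.euler_add' k (kernel.ι π') π' (kernel.condition π') hS' hF hLc hQ'
    have hLe : Curv2.euler k X L = Curv2.deg k X L 1 := by
      simp only [Curv2.deg, Nat.cast_one, one_mul]
      rw [CurveSimple.euler_structure k hdim h0O, hg]; push_cast; ring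
    rw [hLe, hFe, EulerChar.euler_eq_finrank_of_support k hQ' hQ'd] at hadd
    haveI := EulerChar.finite_HH k _ hQ' 0
    have hQle : Module.finrank k (Coh.HH X (cokernel φ) 0) ≤ 1 := by omega
    have hbij' := hbij hQ' hQ'd fun y hy => hQs y (hQ's hy)
    obtain ⟨q1, hq1⟩ := hbij'.2 (π'.app U ((1 : Γ(X, U)) • e))
    obtain ⟨qw, hqw⟩ := hbij'.2 (π'.app U (w • e))
    obtain ⟨v1, hv1⟩ : ∃ v, ProperFin.h0Sec (cokernel φ) v = q1 := ⟨_, AddEquiv.apply_symm_apply _ q1⟩
    obtain ⟨v2, hv2⟩ : ∃ v, ProperFin.h0Sec (cokernel φ) v = qw := ⟨_, AddEquiv.apply_symm_apply _ qw⟩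
    have hdep : ¬ ∀ a β : k, a • v1 + β • v2 = 0 → a = 0 ∧ β = 0 := fun h => by
      have h' := (LinearIndependent.pair_iff (x := v1) (y := v2)).2 h
      have := h'.fintype_card_le_finrank
      rw [Fintype.card_fin] at this
      omega
    refine hdep fun a β hab => hJ2 a β ?_
    have h := congrArg (fun z => res (cokernel φ) (le_top : U ≤ ⊤) (ProperFin.h0Sec _ z)) hab
    simp only [map_zero, map_add] at h
    rw [show ProperFin.h0Sec (cokernel φ) (a • v1) = g a • q1 from
        (ProperFin.h0Sec_smul _ _ _).trans (congrArg _ hv1),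
      show ProperFin.h0Sec (cokernel φ) (β • v2) = g β • qw from
        (ProperFin.h0Sec_smul _ _ _).trans (congrArg _ hv2),
      res_smul, res_smul, hq1, hqw, ← halg, ← halg, ← Scheme.Modules.Hom.app_smul π',
      ← Scheme.Modules.Hom.app_smul π', ← map_add, smul_smul, smul_smul, ← add_smul, ← Algebra.smul_def,
      ← Algebra.smul_def] at h
    obtain ⟨z, hz⟩ := exists_app_eq_of_app_eq_zero (ShortComplex.mk (kernel.ι π') π' (kernel.condition π'))
      hS'.exact U _ h
    -- sections of the image over `U`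
    have hfac : φ ≫ π' = 0 := cokernel.condition φ
    let p := kernel.lift π' φ hfac
    haveI : Epi p := inferInstanceAs (Epi (Abelian.factorThruImage φ))
    haveI : (kernel π').IsQuasicoherent := hF.1
    haveI : (⨁ fun _ : ULift.{u} (Fin (Module.finrank k M)) => Coh.structureModule X).IsQuasicoherent := hAc.1
    obtain ⟨y, hy⟩ := app_surjective_of_epi p hUa z
    have h5a : φ.app U y = (kernel.ι π').app U (p.app U y) := by
      rw [← comp_app']
      exact congrArg (fun ψ : _ ⟶ L => Scheme.Modules.Hom.app ψ U y) (kernel.lift_ι π' φ hfac).symm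
    have h5 : φ.app U y = (a • (1 : Γ(X, U)) + β • w) • e :=
      h5a.trans ((congrArg (fun t => (kernel.ι π').app U t) hy).trans hz)
    have hsum : φ = ∑ j, biproduct.π (fun _ : ULift.{u} (Fin (Module.finrank k M)) => Coh.structureModule X) j ≫
        homOfSec (ProperFin.h0Sec L (b j.down).1) := by
      refine biproduct.hom_ext' _ _ fun i => ?_
      refine (biproduct.ι_desc _ _).trans (Eq.symm ?_)
      rw [Preadditive.comp_sum, Finset.sum_eq_single i]
      · rw [biproduct.ι_π_self_assoc]
      · intro j _ hj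
        rw [biproduct.ι_π_ne_assoc _ (Ne.symm hj), zero_comp]
      · intro h; exact absurd (Finset.mem_univ i) h
    have happc : ∀ (σ : Γ(L, ⊤)) (z : Γ(X, U)), (homOfSec σ).app U z = (z * c1 σ) • e := fun σ z => by
      refine (app_eq (homOfSec σ) U z).trans ?_
      rw [sec_homOfSec, hc1, smul_smul]
    let d : ULift.{u} (Fin (Module.finrank k M)) → Γ(X, U) := fun j =>
      (biproduct.π (fun _ : ULift.{u} (Fin (Module.finrank k M)) => Coh.structureModule X) j).app U y
    let c : ULift.{u} (Fin (Module.finrank k M)) → Γ(X, U) := fun j => d j * cL (b j.down).1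
    have h6 : φ.app U y = (∑ j, c j) • e := by
      rw [Finset.sum_smul]
      have happ : ∀ (ψ : ULift.{u} (Fin (Module.finrank k M)) → (_ ⟶ L)),
          (∑ j, ψ j).app U y = ∑ j, (ψ j).app U y := fun ψ => by
        induction (Finset.univ : Finset (ULift.{u} (Fin (Module.finrank k M)))) using Finset.induction_on with
        | empty => simp
        | @insert j t hj ih => rw [Finset.sum_insert hj, Finset.sum_insert hj, ← ih]; rfl
      rw [hsum, happ]
      refine Finset.sum_congr rfl fun j _ => ?_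
      exact happc (ProperFin.h0Sec L (b j.down).1) (d j)
    have h7 := he.injective le_rfl (a := a • (1 : Γ(X, U)) + β • w) (b := ∑ j, c j)
      (by rw [res_self, ← h5, h6])
    rw [h7]
    exact J.sum_mem fun j _ => J.mul_mem_left _ (b j.down).2
  -- conclude
  refine eq_top_iff.2 fun x _ => ?_
  let x' : Γ(CohB1.tensorPow L 2, ⊤) := x
  have hprod : ∀ r ∈ V * V, ∃ y ∈ AddSubgroup.closure (Set.range fun p : Γ(CohB1.tensorPow L 1, ⊤) × Γ(L, ⊤) =>
      (show Γ(CohB1.tensorPow L 2, ⊤) from tmul p.1 p.2)), ∃ i ∈ I, r = co 2 y le_top he + i := by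
    intro r hr
    induction hr using Submodule.mul_induction_on' with
    | mem_mul_mem u hu v hv =>
      obtain ⟨_, ⟨u', rfl⟩, iu, hiu, rfl⟩ := Submodule.mem_sup.1 hu
      obtain ⟨_, ⟨v', rfl⟩, iv, hiv, rfl⟩ := Submodule.mem_sup.1 hv
      refine ⟨_, AddSubgroup.subset_closure ⟨(pw L (ProperFin.h0Sec L u') 1, ProperFin.h0Sec L v'), rfl⟩,
        cL u' * iv + iu * (cL v' + iv), add_mem (Ideal.mul_mem_left _ _ hiv) (Ideal.mul_mem_right _ _ hiu), ?_⟩
      rw [CurveVA2.co_tmul (pw L (ProperFin.h0Sec L u') 1) (ProperFin.h0Sec L v') le_top he (hc1 _),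
        co_unique (k := 1) (pw L (ProperFin.h0Sec L u') 1) le_top he
          (a := cL u') (by rw [res_pw, hc1, pw_smul, pow_one]; rfl)]
      show (cL u' + iu) * (cL v' + iv) = cL u' * cL v' + _
      ring
    | add p _ q _ hp hq =>
      obtain ⟨y, hy, i, hi, rfl⟩ := hp
      obtain ⟨y', hy', i', hi', rfl⟩ := hq
      refine ⟨y + y', add_mem hy hy', i + i', add_mem hi hi', ?_⟩
      rw [CurveVA2.co_add]; ring
  obtain ⟨y, hy, i, hi, hr⟩ := hprod (co 2 x' le_top he) (htop ▸ Submodule.mem_top)
  obtain ⟨r, rfl⟩ := Ideal.mem_span_singleton'.1 hi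
  have hco : co 2 (x' - y) le_top he = r * f := co_unique _ _ _ (by
    rw [map_sub, co_spec x' le_top he, co_spec y le_top he, hr, add_smul]
    abel)
  obtain ⟨z, hz⟩ := exists_div σs hcov he (hc1 σs) (x' - y) r hco
  show x' ∈ _
  rw [← sub_add_cancel x' y, hz]
  exact add_mem (AddSubgroup.subset_closure ⟨(z, σs), rfl⟩) hy

end Groth.Agent.GenusOneGen92
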